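import Mathlib
import Cfsg.Prelude.Def_FusionSystem
import Cfsg.Agent.Lib.Helper25.FusionPrimeIndex2
import Cfsg.Agent.Lib.Helper25.FusionTransport
import Cfsg.Agent.Lib.Helper25.KNorm3
import Cfsg.Agent.Lib.Helper16.PPowNormal1
import Cfsg.Agent.Lib.Helper16.PPowNormal3

set_option autoImplicit false

/-!
Conjugation by an automorphism `α ∈ Aut_F(Y)` of a strongly closed `Y ≤ C_S(T)` (with `T` strongly
closed) carries `Aut_{C_F(T)}(P)` into `Aut_{C_F(T)}(α P)` for every `P ≤ Y`.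
-/

namespace Cfsg.Agent.CFE

open Cfsg Cfsg.FusionSystem Cfsg.Agent.Helper25 Cfsg.Agent.Helper26

variable {Ω : Type*} [Group Ω] {S : Subgroup Ω}

theorem cfeconj8_main [Finite S] (p : ℕ) [Fact p.Prime] (hS : IsPGroup p S) (F : FusionSystem S)
    (hF : F.IsSaturated p) {T : Subgroup Ω} (hT : F.StronglyClosed T)
    (C : FusionSystem (centralizerIn S T)) (hC : F.IsCentralizerSystem T C) {Y : Subgroup Ω}
    (hYK : Y ≤ centralizerIn S T) (hY : F.StronglyClosed Y) {α : MulAut Y}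
    (hα : α ∈ F.autGroup Y) {P : Subgroup Ω} (hPY : P ≤ Y) :
    ∀ a ∈ C.autGroup P, (MulAut.congr (autRestr hPY α)).toMonoidHom a ∈
      C.autGroup ((P.subgroupOf Y).map (Y.subtype.comp α.toMonoidHom)) := by
  intro a ha
  have hTS : T ≤ S := hT.1
  have hYS : Y ≤ S := hY.1
  have hPS : P ≤ S := hPY.trans hYS
  have hPK : P ≤ centralizerIn S T := hPY.trans hYK
  have hP'Y : (P.subgroupOf Y).map (Y.subtype.comp α.toMonoidHom) ≤ Y := map_aut_le α P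
  have hP'K : (P.subgroupOf Y).map (Y.subtype.comp α.toMonoidHom) ≤ centralizerIn S T :=
    hP'Y.trans hYK
  -- `a` as a map of `C_F(T)`
  have haC : P.subtype.comp a.toMonoidHom ∈ C.Hom P := (mem_autGroup_iff C hPK a).mp ha
  rw [hC P] at haC
  obtain ⟨haF, -, -, ψ, hψ, hψP, hψT⟩ := haC
  have haF' : a ∈ F.autGroup P := (mem_autGroup_iff F hPS a).mpr haF
  -- extension of `α`
  obtain ⟨β, hβ, hβY⟩ := Helper16.PPowNormal.exists_aut_ext p hS F hF hY α hα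
  have hTCY : T ≤ centralizerIn S Y := by
    intro t ht
    rw [mem_centralizerIn]
    refine ⟨hTS ht, fun y hy => ?_⟩
    exact ((mem_centralizerIn.mp (hYK hy)).2 t ht).symm
  have hle : P ⊔ T ≤ Y ⊔ centralizerIn S Y :=
    sup_le (hPY.trans le_sup_left) (hTCY.trans le_sup_right)
  have hRS : Y ⊔ centralizerIn S Y ≤ S := sup_le hYS centralizerIn_le
  have hβF : (Y ⊔ centralizerIn S Y).subtype.comp β.toMonoidHom ∈ F.Hom (Y ⊔ centralizerIn S Y) :=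
    (mem_autGroup_iff F hRS β).mp hβ
  obtain ⟨b, hbdef⟩ : ∃ b : ↥(P ⊔ T) →* Ω,
      b = ((Y ⊔ centralizerIn S Y).subtype.comp β.toMonoidHom).comp (Subgroup.inclusion hle) :=
    ⟨_, rfl⟩
  have hbF : b ∈ F.Hom (P ⊔ T) := hbdef ▸ restrict_mem F hle hβF
  have hbP : ∀ (x : Ω) (hx : x ∈ P),
      b ⟨x, (le_sup_left : P ≤ P ⊔ T) hx⟩ = ((α ⟨x, hPY hx⟩ : Y) : Ω) := by
    intro x hx
    rw [hbdef]
    exact hβY ⟨x, hPY hx⟩
  have hbT : ∀ (t : Ω) (ht : t ∈ T), b ⟨t, (le_sup_right : T ≤ P ⊔ T) ht⟩ ∈ T := by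
    intro t ht
    have h1 := restrict_mem F (le_sup_right : T ≤ P ⊔ T) hbF
    exact hT.2 T le_rfl _ h1 ⟨t, ht⟩
  have hbTsurj : ∀ t' ∈ T, ∃ (t : Ω) (ht : t ∈ T),
      b ⟨t, (le_sup_right : T ≤ P ⊔ T) ht⟩ = t' := by
    haveI : Finite T := finite_of_le_finite hTS
    let f : T → T := fun t => ⟨b ⟨t, (le_sup_right : T ≤ P ⊔ T) t.2⟩, hbT t t.2⟩
    have hf : Function.Injective f := by
      intro t1 t2 h
      have h1 : b ⟨t1, (le_sup_right : T ≤ P ⊔ T) t1.2⟩ = b ⟨t2, (le_sup_right : T ≤ P ⊔ T) t2.2⟩ :=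
        congrArg Subtype.val h
      have h2 := F.injective_of_mem hbF h1
      exact Subtype.ext (congrArg (fun z : ↥(P ⊔ T) => (z : Ω)) h2)
    have hs := Finite.injective_iff_surjective.mp hf
    intro t' ht'
    obtain ⟨t, ht⟩ := hs ⟨t', ht'⟩
    exact ⟨t, t.2, congrArg Subtype.val ht⟩
  -- inverse of `b`
  obtain ⟨θ, hθ, hθb⟩ := F.inv_mem hbF
  have hθv : ∀ y : b.range, θ y ∈ P ⊔ T := by
    rintro ⟨_, z, rfl⟩
    rw [hθb]; exact z.2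
  -- `ψ` maps `P ⊔ T` into itself
  have hψPv : ∀ (x : Ω) (hx : x ∈ P),
      ψ ⟨x, (le_sup_left : P ≤ P ⊔ T) hx⟩ = ((a ⟨x, hx⟩ : P) : Ω) := fun x hx => hψP ⟨x, hx⟩
  have hψTv : ∀ (t : Ω) (ht : t ∈ T), ψ ⟨t, (le_sup_right : T ≤ P ⊔ T) ht⟩ = t :=
    fun t ht => hψT ⟨t, ht⟩
  have hψv : ∀ z : ↥(P ⊔ T), ψ z ∈ P ⊔ T := by
    apply sup_hom_mem
    · intro x hx
      rw [hψPv x hx]
      exact (le_sup_left : P ≤ P ⊔ T) (a ⟨x, hx⟩).2
    · intro t ht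
      rw [hψTv t ht]
      exact (le_sup_right : T ≤ P ⊔ T) ht
  have h1 := F.comp_mem hθ hψ hθv
  have h1v : ∀ y, (ψ.comp (θ.codRestrict (P ⊔ T) hθv)) y ∈ P ⊔ T := fun y => hψv _
  have h2 := F.comp_mem h1 hbF h1v
  have hle' : (P.subgroupOf Y).map (Y.subtype.comp α.toMonoidHom) ⊔ T ≤ b.range := by
    refine sup_le ?_ ?_
    · intro y hy
      obtain ⟨x, rfl⟩ := (mem_map_aut_iff hPY α).mp hy
      exact ⟨⟨x, (le_sup_left : P ≤ P ⊔ T) x.2⟩, hbP x x.2⟩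
    · intro t' ht'
      obtain ⟨t, ht, h⟩ := hbTsurj t' ht'
      exact ⟨⟨t, (le_sup_right : T ≤ P ⊔ T) ht⟩, h⟩
  have h3 := restrict_mem F hle' h2
  -- the transported automorphism is an `F`-automorphism
  have he : ((P.subgroupOf Y).map (Y.subtype.comp α.toMonoidHom)).subtype.comp
      (autRestr hPY α).toMonoidHom ∈ F.Hom P :=
    (autRestr_mem (resSys F Y hYS) hPY
      ((Helper16.PPowNormal.mem_autGroup_resSys F hYS α).mpr hα)).1
  have hF' := congr_mem_autGroup' F (autRestr hPY α) he haF'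
  rw [mem_autGroup_iff C hP'K, hC]
  refine ⟨(mem_autGroup_iff F (hP'Y.trans hYS) _).mp hF', hP'K,
    fun x => hP'K (Subtype.property _), _, h3, ?_, ?_⟩
  · -- agreement on `α P`
    intro x'
    obtain ⟨x, rfl⟩ := (autRestr hPY α).surjective x'
    have hx1 : ((autRestr hPY α x : ↥((P.subgroupOf Y).map (Y.subtype.comp α.toMonoidHom))) : Ω) =
        b ⟨x, (le_sup_left : P ≤ P ⊔ T) x.2⟩ := (hbP x x.2).symm
    show b ⟨ψ ⟨θ ⟨_, _⟩, _⟩, _⟩ = _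
    have e1 := hom_congr_val θ
      (hle' ((le_sup_left : _ ≤ (P.subgroupOf Y).map (Y.subtype.comp α.toMonoidHom) ⊔ T)
        (autRestr hPY α x).2))
      (⟨⟨x, (le_sup_left : P ≤ P ⊔ T) x.2⟩, rfl⟩ : b ⟨x, (le_sup_left : P ≤ P ⊔ T) x.2⟩ ∈ b.range)
      hx1
    have e2 : θ ⟨b ⟨x, (le_sup_left : P ≤ P ⊔ T) x.2⟩, ⟨_, rfl⟩⟩ = (x : Ω) := hθb _
    have e3 := hom_congr_val ψ (hθv ⟨_, hle' ((le_sup_left : _ ≤
        (P.subgroupOf Y).map (Y.subtype.comp α.toMonoidHom) ⊔ T) (autRestr hPY α x).2)⟩)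
      ((le_sup_left : P ≤ P ⊔ T) x.2) (e1.trans e2)
    have e4 := hψPv x x.2
    have e5 := hom_congr_val b (hψv _) ((le_sup_left : P ≤ P ⊔ T) (a ⟨x, x.2⟩).2) (e3.trans e4)
    refine e5.trans ?_
    rw [hbP _ (a ⟨x, x.2⟩).2]
    show _ = (((autRestr hPY α) (a ((autRestr hPY α).symm (autRestr hPY α x))) :
      ↥((P.subgroupOf Y).map (Y.subtype.comp α.toMonoidHom))) : Ω)
    rw [MulEquiv.symm_apply_apply]
    rfl
  · -- identity on `T`
    intro t'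
    obtain ⟨t, ht, htb⟩ := hbTsurj t' t'.2
    show b ⟨ψ ⟨θ ⟨_, _⟩, _⟩, _⟩ = _
    have e1 := hom_congr_val θ
      (hle' ((le_sup_right : T ≤ (P.subgroupOf Y).map (Y.subtype.comp α.toMonoidHom) ⊔ T) t'.2))
      (⟨⟨t, (le_sup_right : T ≤ P ⊔ T) ht⟩, rfl⟩ : b ⟨t, (le_sup_right : T ≤ P ⊔ T) ht⟩ ∈ b.range)
      htb.symm
    have e2 : θ ⟨b ⟨t, (le_sup_right : T ≤ P ⊔ T) ht⟩, ⟨_, rfl⟩⟩ = t := hθb _
    have e3 := hom_congr_val ψ (hθv ⟨_, hle' ((le_sup_right : T ≤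
        (P.subgroupOf Y).map (Y.subtype.comp α.toMonoidHom) ⊔ T) t'.2)⟩)
      ((le_sup_right : T ≤ P ⊔ T) ht) (e1.trans e2)
    have e4 := hψTv t ht
    have e5 := hom_congr_val b (hψv _) ((le_sup_right : T ≤ P ⊔ T) ht) (e3.trans e4)
    exact e5.trans htb

end Cfsg.Agent.CFE
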