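import Mathlib
import Cfsg.Prelude.Def_FusionSystem
import Cfsg.Agent.Lib.Helper25.FusionInvariant
import Cfsg.Agent.Lib.Helper25.FusionPrimeIndex2
import Cfsg.Agent.Lib.Helper25.FusionTransport
import Cfsg.Agent.Lib.Helper25.FusionSat3
import Cfsg.Agent.Lib.Helper25.FusionNormal3
import Cfsg.Agent.Lib.Helper26.FusionRestrict
import Cfsg.Agent.Lib.Helper16.PPowNormal1
import Cfsg.Agent.Lib.Helper16.PPowNormal3
import Cfsg.Agent.Lib.Helper16.ResLim2
import Cfsg.Agent.Lib.Helper3.BcgloX1
import Cfsg.Agent.Lib.CSE.CSEFnMap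
import Cfsg.Agent.Lib.CSE.CSEExtQ

/-!
# S5155 (helper9 design): the centralizer `C_F(E)` of a normal subsystem exists

Common set-up for the pieces `CFE-*`.  `T` and `Y` are strongly closed in the saturated system `F`
over `S`, `Y ≤ K := C_S(T)`, and `C` is the centralizer system `C_F(T)` over `K`.
(In S5155, `Y = C_S(E)`; nothing else about `E` is used in the pieces.)
-/

set_option autoImplicit false

namespace Cfsg.Agent.Helper9.CFE

open Cfsg Cfsg.FusionSystem Cfsg.Agent.Helper25 Cfsg.Agent.Helper26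

variable {Ω : Type*} [Group Ω] {S : Subgroup Ω}

/-- The common hypotheses of the `CFE-*` pieces. -/
structure Setup (p : ℕ) (F : FusionSystem S) (T Y : Subgroup Ω)
    (C : FusionSystem (centralizerIn S T)) : Prop where
  pS : IsPGroup p S
  sat : F.IsSaturated p
  scT : F.StronglyClosed T
  scY : F.StronglyClosed Y
  leY : Y ≤ centralizerIn S T
  cen : F.IsCentralizerSystem T C

namespace Setup

variable {p : ℕ} {F : FusionSystem S} {T Y : Subgroup Ω} {C : FusionSystem (centralizerIn S T)}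

theorem leS_T (h : Setup p F T Y C) : T ≤ S := h.scT.1

theorem leS_Y (h : Setup p F T Y C) : Y ≤ S := h.scY.1

theorem leS_K (_h : Setup p F T Y C) : centralizerIn S T ≤ S := inf_le_left

theorem mem_C_iff (h : Setup p F T Y C) {P : Subgroup Ω} (φ : P →* Ω) :
    φ ∈ C.Hom P ↔ φ ∈ F.centralizerHom T P := by
  rw [h.cen P]

theorem C_sub (h : Setup p F T Y C) : C.IsSubsystemOf F := by
  intro P φ hφ
  exact ((h.mem_C_iff φ).mp hφ).1

/-- `F`-maps defined on subgroups of `Y` take values in `Y`. -/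
theorem map_mem_Y (h : Setup p F T Y C) {P : Subgroup Ω} (hPY : P ≤ Y) {φ : P →* Ω}
    (hφ : φ ∈ F.Hom P) (x : P) : φ x ∈ Y :=
  h.scY.2 P hPY φ hφ x

end Setup

end Cfsg.Agent.Helper9.CFE
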