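import Mathlib
import Cfsg.Agent.Lib.CFE.CFEDefs
import Cfsg.Agent.Lib.CFE.CFEConj8

/-!
# S5155 piece CFE-CONJC: `Aut_F(Y)` transports `Aut_C(P)` to `Aut_C(αP)` for `P ≤ Y`  (`C = C_F(T)`)

RECIPE (MEDIUM-LONG; only `comp_mem` / `inv_mem` / `restrict_mem` plumbing).
Write `P' := (P.subgroupOf Y).map (Y.subtype.comp α.toMonoidHom)`, `e := autRestr hPY α : P ≃* P'`
(`Helper25.autRestr`, `((e x : P') : Ω) = α ⟨x, _⟩` by `rfl`), `a' := MulAut.congr e a`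
(`a' y = e (a (e.symm y))`).  `P' ≤ Y` (`Helper25.map_aut_le α P`).
1. From `ha` (`mem_autGroup_iff C (hPY.trans h.leY) a` then `h.mem_C_iff`): there is
   `ah ∈ F.Hom (P ⊔ T)` with `ah (incl x) = a x` for `x : P` and `ah (incl t) = t` for `t : T`.
2. `exists_ext_T p h.pS F h.sat h.scT h.leY (Y.subtype.comp α.toMonoidHom) _ _` (`α ∈ F.autGroup Y`
   gives membership in `F.Hom Y` by `mem_autGroup_iff F h.leS_Y α`) gives `ψ ∈ F.Hom (Y ⊔ T)` with
   `ψ (incl y) = α y`.  Let `ψP := ψ ∘ inclusion (sup_le_sup_right hPY T) ∈ F.Hom (P ⊔ T)`.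
   `F.inv_mem` gives `ψi ∈ F.Hom ψP.range` with `ψi (ψP z) = z`.
3. `P' ⊔ T ≤ ψP.range`: `P'` is the image of `P`; `T ≤ ψP.range` since `ψP` maps `T` into `T`
   (`h.scT.2`) injectively and `T` is finite (`finite_of_le_finite h.leS_T`).
4. `ψ' := ψ ∘ ah ∘ ψi ∘ inclusion : ↥(P' ⊔ T) →* Ω` via `F.comp_mem` twice (values of `ψi` lie in
   `P ⊔ T`; values of `ah` lie in `P ⊔ T ≤ Y ⊔ T`: sup-induction, `ah` maps `P` to `P`, fixes `T`).
   `ψ' ∈ F.Hom (P' ⊔ T)`; on `x' = e x ∈ P'`: `ψi x' = x`, `ah x = a x`, `ψ (a x) = α (a x) = a' x'`;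
   on `t ∈ T`: `ψi t = t₀ ∈ T` with `ψ t₀ = t` (sup/`T`-surjectivity), `ah t₀ = t₀`, `ψ t₀ = t`.
5. Conclude: `mem_autGroup_iff C (P' ≤ centralizerIn S T) a'` and `h.mem_C_iff`; the conjuncts of
   `centralizerHom T P'`: membership in `F.Hom P'` (restrict `ψ'` to `P'`, `restrict_mem`, then
   `ext`), `P' ≤ centralizerIn S T` (`P' ≤ Y`), values in `P' ≤ Y ≤ centralizerIn S T`, extension `ψ'`.
Aux names: prefix `cfeconjc_`.
-/

set_option autoImplicit false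

namespace Cfsg.Agent.Helper9.CFE

open Cfsg Cfsg.FusionSystem Cfsg.Agent.Helper25 Cfsg.Agent.Helper26

variable {Ω : Type*} [Group Ω] {S : Subgroup Ω}

theorem conj_mem_C [Finite S] {p : ℕ} [Fact p.Prime] {F : FusionSystem S} {T Y : Subgroup Ω}
    {C : FusionSystem (centralizerIn S T)} (h : Setup p F T Y C) {α : MulAut Y}
    (hα : α ∈ F.autGroup Y) {P : Subgroup Ω} (hPY : P ≤ Y) {a : MulAut P}
    (ha : a ∈ C.autGroup P) :
    MulAut.congr (autRestr hPY α) a ∈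
      C.autGroup ((P.subgroupOf Y).map (Y.subtype.comp α.toMonoidHom)) :=
  Cfsg.Agent.CFE.cfeconj8_main p h.pS F h.sat h.scT C h.cen h.leY h.scY hα hPY a ha

end Cfsg.Agent.Helper9.CFE
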