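import Mathlib
import Cfsg.Agent.Lib.CFE.CFEConjC

/-!
# S5155 piece CFE-RESID: `O^p(Aut_C(P))` lies in the `Aut_F(Y)`-invariant core of `D₀`

RECIPE (MEDIUM, copy-adapt).  Copy the proof of
`Helper16.PPowNormal.pResidual_le_invCore_autGroup` (`Lib/Helper16/PPowNormal1.lean`, 25 lines)
with `T := Y`, `E := D₀`, and with `F.autGroup P` replaced by `C.autGroup P` in the `pResidual`
(`hEi := hDi : D₀.HasPPowerIndexIn C p`), keeping `invCore (resSys F Y h.leS_Y) D₀`.  The only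
step that changes is `hmap`: for `a ∈ C.autGroup P`,
`(MulAut.congr (autRestr hPY α)).toMonoidHom a ∈ C.autGroup (αP)` is `conj_mem_C h hα' hPY ha`
where `hα' : α ∈ F.autGroup Y` comes from `hα : α ∈ (resSys F Y _).autGroup Y` by
`Helper16.PPowNormal.mem_autGroup_resSys F h.leS_Y α`.  (`he` is then not needed.)
Aux names: prefix `cferesid_`.
-/

set_option autoImplicit false

namespace Cfsg.Agent.Helper9.CFE

open Cfsg Cfsg.FusionSystem Cfsg.Agent.Helper25 Cfsg.Agent.Helper26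

variable {Ω : Type*} [Group Ω] {S : Subgroup Ω}

theorem pResidual_le_invCore [Finite S] {p : ℕ} [Fact p.Prime] {F : FusionSystem S}
    {T Y : Subgroup Ω} {C : FusionSystem (centralizerIn S T)} (h : Setup p F T Y C)
    (D₀ : FusionSystem Y) (hDi : D₀.HasPPowerIndexIn C p) {P : Subgroup Ω} (hPY : P ≤ Y) :
    (pResidual p ↥(C.autGroup P)).map (C.autGroup P).subtype ≤
      (invCore (resSys F Y h.leS_Y) D₀).autGroup P := by
  rintro _ ⟨ν, hν, rfl⟩
  have hYS : Y ≤ S := h.leS_Y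
  show (ν : MulAut P) ∈ (invCore (resSys F Y hYS) D₀).autGroup P
  rw [mem_autGroup_iff (invCore (resSys F Y hYS) D₀) hPY]
  refine ⟨(mem_autGroup_iff D₀ hPY _).mp (hDi.2.2 P hPY ⟨ν, hν, rfl⟩), ?_⟩
  intro α hα hP' hφS
  have hα' : α ∈ F.autGroup Y :=
    (Cfsg.Agent.Helper16.PPowNormal.mem_autGroup_resSys F hYS α).mp hα
  have hmap : ∀ a ∈ C.autGroup P, (MulAut.congr (autRestr hPY α)).toMonoidHom a ∈
      C.autGroup ((P.subgroupOf Y).map (Y.subtype.comp α.toMonoidHom)) :=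
    fun a ha => conj_mem_C h hα' hPY ha
  have hν' := pResidual_transport p (MulAut.congr (autRestr hPY α)).toMonoidHom
    (MulAut.congr (autRestr hPY α)).injective hmap hν
  have h1 : MulAut.congr (autRestr hPY α) (ν : MulAut P) ∈
      D₀.autGroup ((P.subgroupOf Y).map (Y.subtype.comp α.toMonoidHom)) :=
    hDi.2.2 _ (map_aut_le α P) ⟨_, hν', rfl⟩
  refine ⟨_, (mem_autGroup_iff D₀ (map_aut_le α P) _).mp h1, fun x => ?_⟩
  show (((autRestr hPY α) ((ν : MulAut P) ((autRestr hPY α).symm ⟨_, _⟩)) :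
    ↥((P.subgroupOf Y).map (Y.subtype.comp α.toMonoidHom))) : Ω) = _
  have e : (⟨((α ⟨x, hP' x.2⟩ : Y) : Ω), mem_map_aut hP' α x⟩ :
      ↥((P.subgroupOf Y).map (Y.subtype.comp α.toMonoidHom))) = autRestr hPY α x := Subtype.ext rfl
  rw [e, MulEquiv.symm_apply_apply]
  rfl

end Cfsg.Agent.Helper9.CFE
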