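import Mathlib
import Cfsg.Agent.Lib.CFE.CFEResid

/-!
# S5155 piece CFE-AUTINV: `D₀` is invariant under `Aut_F(Y)`

RECIPE (SHORT, copy-adapt).  Copy the proof of `Helper16.PPowNormal.autInv_of_pPowerIndex`
(`Lib/Helper16/PPowNormal1.lean`, 12 lines): `Finite Y`, `IsPGroup p Y` from `h.leS_Y`, `h.pS`;
`hsub := Helper16.ResLim.hom_subset_of_pResidual p hYp C D₀ hDs hDi.1 h.leY
  (invCore (resSys F Y h.leS_Y) D₀) le_rfl (fun P hPY => pResidual_le_invCore h D₀ hDi hPY)`;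
then as there (`(hsub P hφ).2`, `mem_autGroup_resSys F h.leS_Y α`).
Aux names: prefix `cfeautinv_`.
-/

set_option autoImplicit false

namespace Cfsg.Agent.Helper9.CFE

open Cfsg Cfsg.FusionSystem Cfsg.Agent.Helper25 Cfsg.Agent.Helper26

variable {Ω : Type*} [Group Ω] {S : Subgroup Ω}

theorem autInv [Finite S] {p : ℕ} [Fact p.Prime] {F : FusionSystem S}
    {T Y : Subgroup Ω} {C : FusionSystem (centralizerIn S T)} (h : Setup p F T Y C)
    (D₀ : FusionSystem Y) (hDs : D₀.IsSaturated p) (hDi : D₀.HasPPowerIndexIn C p) :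
    AutInv F D₀ := by
  have hfin : Finite Y := finite_of_le_finite h.leS_Y
  have hYp : IsPGroup p Y := h.pS.to_le h.leS_Y
  have hsub := Cfsg.Agent.Helper16.ResLim.hom_subset_of_pResidual p hYp C D₀ hDs hDi.1 h.leY
    (invCore (resSys F Y h.leS_Y) D₀) le_rfl (fun P hPY => pResidual_le_invCore h D₀ hDi hPY)
  intro α hα P hPT φ hφ
  have hφI : InvPr (resSys F Y h.leS_Y) D₀ P φ := (hsub P hφ).2
  obtain ⟨χ, hχ, hχv⟩ := hφI α
    ((Cfsg.Agent.Helper16.PPowNormal.mem_autGroup_resSys F h.leS_Y α).mpr hα) hPT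
    (D₀.le_of_mem hφ).2
  exact ⟨χ, hχ, hχv⟩

end Cfsg.Agent.Helper9.CFE
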