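import Mathlib
import Cfsg.Agent.Lib.CFE.CFEDefs
import Cfsg.Agent.Lib.Helper25.FusionProduct

/-!
# S5155 piece CFE-EXTT: maps between subgroups of `C_S(T)` extend over `T` (T strongly closed)

RECIPE (MEDIUM-LONG, only `comp_mem` / `inv_mem` / `restrict_mem` plumbing).
`Q := φ.range` (`Q ≤ S` by `(F.le_of_mem hφ).2`, `Q ≤ centralizerIn S T` by `hφC`).
`Helper3.CSE.exists_fn_map p hS F hF hQS` gives `Q'` fully normalized and
`χ ∈ F.Hom (normalizerIn S Q)` with `(Q.subgroupOf _).map χ = Q'`;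
`Helper25.of_fullyNormalized p hS F hF hfn` gives `F.IsReceptive Q'`.
`θ := χ ∘ φ` (use `comp_mem'`/`F.comp_mem`, values of `φ` lie in `Q ≤ normalizerIn S Q`),
`θ ∈ F.Hom P`, `θ.range = Q'`.  Receptivity (`hrec.2 P θ hθ hrange`) gives
`θh ∈ F.Hom (extender S P θ)` agreeing with `θ` on `P` (see `Helper3.CSE.exists_ext_rc` in
`Lib/CSE/CSEExtQ.lean` for exactly this use: `le_extender F hθ`, `centralizerIn_le_extender`).
`P ⊔ T ≤ extender S P θ` since `T ≤ centralizerIn S P` (from `hP`; `mem_centralizerIn`).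
`ψ₁ := θh ∘ inclusion ∈ F.Hom (P ⊔ T)`;  `Q ⊔ T ≤ normalizerIn S Q` (T centralizes Q), so
`ψ₂ := χ ∘ inclusion ∈ F.Hom (Q ⊔ T)`.  `F.inv_mem hψ₂` gives `ψ₂i ∈ F.Hom ψ₂.range` with
`ψ₂i (ψ₂ y) = y`.  Every `ψ₁ z` lies in `ψ₂.range` (sup-induction on `z ∈ P ⊔ T`
(`Subgroup.sup_induction` / closure): for `z ∈ P`, `ψ₁ z = χ (φ z) = ψ₂ (φ z)`; for `z ∈ T`,
`ψ₁ z ∈ T` (`hT.2`) and `T ≤ ψ₂.range` because `ψ₂` maps `T` into `T` (`hT.2`) injectively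
(`F.injective_of_mem`) and `T` is finite (`finite_of_le_finite hT.1`), so onto `T`).
`ψ := ψ₂i ∘ ψ₁` (`F.comp_mem`), and `ψ (incl x) = ψ₂i (χ (φ x)) = ψ₂i (ψ₂ (φ x)) = φ x`.
Aux names: prefix `cfeextt_`.
-/

set_option autoImplicit false

namespace Cfsg.Agent.Helper9.CFE

open Cfsg Cfsg.FusionSystem Cfsg.Agent.Helper25 Cfsg.Agent.Helper26

variable {Ω : Type*} [Group Ω] {S : Subgroup Ω}

theorem exists_ext_T [Finite S] (p : ℕ) [Fact p.Prime] (hS : IsPGroup p S) (F : FusionSystem S)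
    (hF : F.IsSaturated p) {T : Subgroup Ω} (hT : F.StronglyClosed T) {P : Subgroup Ω}
    (hP : P ≤ centralizerIn S T) (φ : P →* Ω) (hφ : φ ∈ F.Hom P)
    (hφC : ∀ x : P, φ x ∈ centralizerIn S T) :
    ∃ ψ ∈ F.Hom (P ⊔ T), ∀ x : P, ψ (Subgroup.inclusion le_sup_left x) = φ x := by
  have hTS : T ≤ S := hT.1
  have hcP : T ≤ centralizerIn S P := by
    intro b hb
    rw [mem_centralizerIn]
    exact ⟨hTS hb, fun x hx => ((mem_centralizerIn.mp (hP hx)).2 b hb).symm⟩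
  have hcR : T ≤ centralizerIn S φ.range := by
    intro b hb
    rw [mem_centralizerIn]
    refine ⟨hTS hb, ?_⟩
    rintro _ ⟨x, rfl⟩
    exact ((mem_centralizerIn.mp (hφC x)).2 b hb).symm
  obtain ⟨Q', ⟨χ, hχ, hχQ⟩, -, hrec⟩ := hF φ.range (range_le F hφ)
  have hval : ∀ x : P, φ x ∈ φ.range := fun x => ⟨x, rfl⟩
  have hθ : χ.comp (φ.codRestrict φ.range hval) ∈ F.Hom P := F.comp_mem hφ hχ hval
  have hθr : (χ.comp (φ.codRestrict φ.range hval)).range = Q' := by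
    rw [← hχQ]
    ext y
    constructor
    · rintro ⟨x, rfl⟩
      exact ⟨_, rfl⟩
    · rintro ⟨⟨_, x, rfl⟩, rfl⟩
      exact ⟨x, rfl⟩
  obtain ⟨θ', hθ', hθ'P⟩ := exists_ext_of_receptive F hrec hθ hθr hcP
  obtain ⟨χ', hχ', hχ'P⟩ := exists_ext_of_receptive F hrec hχ hχQ hcR
  obtain ⟨ω, hω, hωinv, -⟩ := exists_inv F hχ' rfl
  have hmem : ∀ z : ↥(P ⊔ T), θ' z ∈ χ'.range := by
    rintro ⟨z, hz⟩
    have : ∀ hz : z ∈ P ⊔ T, θ' ⟨z, hz⟩ ∈ χ'.range := by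
      refine sup_induction (C := fun z => ∀ hz : z ∈ P ⊔ T, θ' ⟨z, hz⟩ ∈ χ'.range) ?_ ?_ ?_ hz
      · intro x hx hz
        have e : θ' ⟨x, hz⟩ = χ ⟨φ ⟨x, hx⟩, hval _⟩ := hθ'P ⟨x, hx⟩
        rw [e, ← hχ'P]
        exact ⟨_, rfl⟩
      · intro x hx hz
        have h1 : θ' ⟨x, hz⟩ ∈ T := by
          have := hT.2 T le_rfl _ (restrict_mem F (le_sup_right : T ≤ P ⊔ T) hθ') ⟨x, hx⟩
          exact this
        obtain ⟨w, hw, hwe⟩ := surj_of_stronglyClosed F hT (le_sup_right : T ≤ φ.range ⊔ T) hχ' h1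
        exact ⟨_, hwe⟩
      · intro a b ha hb hCa hCb hab
        have e : (⟨a * b, hab⟩ : ↥(P ⊔ T)) = ⟨a, ha⟩ * ⟨b, hb⟩ := rfl
        rw [e, map_mul]
        exact Subgroup.mul_mem _ (hCa ha) (hCb hb)
    exact this hz
  refine ⟨ω.comp (θ'.codRestrict χ'.range hmem), F.comp_mem hθ' hω hmem, fun x => ?_⟩
  have e1 : θ' (Subgroup.inclusion le_sup_left x) =
      χ' (Subgroup.inclusion le_sup_left ⟨φ x, hval x⟩) := by
    rw [hθ'P, hχ'P]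
    rfl
  have h2 := hωinv (Subgroup.inclusion le_sup_left ⟨φ x, hval x⟩) ⟨_, rfl⟩
  show ω ⟨θ' (Subgroup.inclusion le_sup_left x), _⟩ = φ x
  rw [hom_congr_val ω (hmem _) ⟨_, rfl⟩ e1, h2]
  rfl

end Cfsg.Agent.Helper9.CFE
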