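import Mathlib
import Cfsg.Prelude.Def_FusionSystem
import Cfsg.Agent.Lib.Helper25.FusionProduct
import Cfsg.Agent.Lib.Helper25.FusionProduct3
import Cfsg.Agent.Lib.Helper25.FusionSat3
import Cfsg.Agent.Lib.Helper16.PPowNormal3
import Cfsg.Agent.Lib.CSE.CSEExtQ

/-!
# S5155 (design helper9), step (d): the Frattini factorization through `C_F(T)` (helper27)

`F` saturated over the finite `p`-group `S`, `T` and `Y ≤ C_S(T)` strongly closed in `F`.  Every map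
`φ ∈ Hom_F(P, Y)`, `P ≤ Y`, is `α₀ ∘ ψ` with `α₀ ∈ Aut_F(Y)` and `ψ` a map of `C_F(T)` (with values in `Y`).

Proof.  `φ` extends to `φ'` on `P T` (`exists_ext_factor`), `β := φ'|_T ∈ Aut_F(T)`; `T` is receptive, so `β`
extends to `β^ ∈ Aut_F(T C_S(T))` (`exists_ext_rc`); `β^` stabilizes `Y` (strongly closed): `α₀ := β^|_Y`.
Then `ψ := α₀⁻¹ ∘ φ` extends to `β^⁻¹ ∘ φ'` on `P T`, which is the identity on `T`.
-/

set_option autoImplicit false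

namespace Cfsg.Agent.CFE

open Cfsg Cfsg.FusionSystem Cfsg.Agent.Helper25

variable {Ω : Type*} [Group Ω] {S : Subgroup Ω}

theorem cfefrat27_main [Finite S] (p : ℕ) [Fact p.Prime] (hS : IsPGroup p S) (F : FusionSystem S)
    (hF : F.IsSaturated p) {T Y : Subgroup Ω} (hT : F.StronglyClosed T) (hY : F.StronglyClosed Y)
    (hYC : Y ≤ centralizerIn S T) {P : Subgroup Ω} (hP : P ≤ Y) {φ : P →* Ω} (hφ : φ ∈ F.Hom P) :
    ∃ α₀ ∈ F.autGroup Y, ∃ ψ : P →* Ω, ψ ∈ F.centralizerHom T P ∧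
      ∃ hψY : ∀ x : P, ψ x ∈ Y, ∀ x : P, φ x = ((α₀ ⟨ψ x, hψY x⟩ : Y) : Ω) := by
  have hTS : T ≤ S := hT.1
  have hYS : Y ≤ S := hY.1
  have hcomm : ∀ a ∈ Y, ∀ b ∈ T, a * b = b * a := by
    intro a ha b hb
    exact ((mem_centralizerIn.mp (hYC ha)).2 b hb).symm
  -- step 1: extend `φ` to `P ⊔ T`
  obtain ⟨φ', hφ', hφ'P⟩ := exists_ext_factor p F hF hY hT hcomm hP hφ
  have hφY : ∀ x : P, φ x ∈ Y := fun x => hY.2 P hP φ hφ x
  -- step 2: `β := φ'|_T ∈ Aut_F(T)`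
  have hresT : φ'.comp (Subgroup.inclusion (le_sup_right : T ≤ P ⊔ T)) ∈ F.Hom T :=
    restrict_mem F le_sup_right hφ'
  have hresTval : ∀ t : T, (φ'.comp (Subgroup.inclusion (le_sup_right : T ≤ P ⊔ T))) t ∈ T :=
    fun t => hT.2 T le_rfl _ hresT t
  obtain ⟨β, hβ, hβv⟩ := exists_aut_of_hom F hresT hresTval
  -- step 3: extend `β` to `T ⊔ C_S(T)`
  have hTrec : F.IsReceptive T :=
    (of_fullyNormalized p hS F hF
      (Cfsg.Agent.Helper16.PPowNormal.isFullyNormalized_of_stronglyClosed F hT)).2.2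
  obtain ⟨βh, hβh, hβhT⟩ := Cfsg.Agent.Helper3.CSE.exists_ext_rc F hTrec β hβ
  have hTCS : T ⊔ centralizerIn S T ≤ S := sup_le hTS inf_le_left
  have hYTC : Y ≤ T ⊔ centralizerIn S T := hYC.trans le_sup_right
  -- step 4: `α₀ := βh|_Y`
  have hβhF : (T ⊔ centralizerIn S T).subtype.comp βh.toMonoidHom ∈ F.Hom (T ⊔ centralizerIn S T) :=
    (mem_autGroup_iff F hTCS βh).mp hβh
  have hresY : ((T ⊔ centralizerIn S T).subtype.comp βh.toMonoidHom).comp (Subgroup.inclusion hYTC) ∈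
      F.Hom Y := restrict_mem F hYTC hβhF
  have hresYval : ∀ y : Y,
      (((T ⊔ centralizerIn S T).subtype.comp βh.toMonoidHom).comp (Subgroup.inclusion hYTC)) y ∈ Y :=
    fun y => hY.2 Y le_rfl _ hresY y
  obtain ⟨α₀, hα₀, hα₀v⟩ := exists_aut_of_hom F hresY hresYval
  have hα₀v' : ∀ y : Y, ((α₀ y : Y) : Ω) = ((βh (Subgroup.inclusion hYTC y) : ↥(T ⊔ centralizerIn S T)) : Ω) :=
    fun y => hα₀v y
  -- the inverse of `βh` on elements of `Y`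
  have hβhinvY : ∀ y : Y, ((βh⁻¹ (Subgroup.inclusion hYTC y) : ↥(T ⊔ centralizerIn S T)) : Ω) =
      ((α₀⁻¹ y : Y) : Ω) := by
    intro y
    have h1 := hα₀v' (α₀⁻¹ y)
    have h2 : α₀ (α₀⁻¹ y) = y := by simp
    rw [h2] at h1
    have h3 : Subgroup.inclusion hYTC y = βh (Subgroup.inclusion hYTC (α₀⁻¹ y)) := Subtype.ext h1
    rw [h3]
    simp
  -- the map `ψ := α₀⁻¹ ∘ φ`
  have hα₀inv : Y.subtype.comp (α₀⁻¹).toMonoidHom ∈ F.Hom Y :=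
    (mem_autGroup_iff F hYS α₀⁻¹).mp (Subgroup.inv_mem _ hα₀)
  have hψF : (Y.subtype.comp (α₀⁻¹).toMonoidHom).comp (φ.codRestrict Y hφY) ∈ F.Hom P :=
    F.comp_mem hφ hα₀inv hφY
  have hψY : ∀ x : P, ((Y.subtype.comp (α₀⁻¹).toMonoidHom).comp (φ.codRestrict Y hφY)) x ∈ Y :=
    fun x => (α₀⁻¹ ⟨φ x, hφY x⟩ : Y).2
  -- values of `φ'` in `T ⊔ C_S(T)`
  have hφ'val : ∀ z : ↥(P ⊔ T), φ' z ∈ T ⊔ centralizerIn S T := by
    apply Cfsg.Agent.Helper3.CSE.cseextq_sup_mem φ' (T ⊔ centralizerIn S T)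
    · intro a ha
      have e : φ' ⟨a, (le_sup_left : P ≤ P ⊔ T) ha⟩ = φ ⟨a, ha⟩ := hφ'P ⟨a, ha⟩
      rw [e]
      exact hYTC (hφY _)
    · intro b hb
      exact le_sup_left (b := centralizerIn S T) (hresTval ⟨b, hb⟩)
  have hβhinv : (T ⊔ centralizerIn S T).subtype.comp (βh⁻¹).toMonoidHom ∈
      F.Hom (T ⊔ centralizerIn S T) :=
    (mem_autGroup_iff F hTCS βh⁻¹).mp (Subgroup.inv_mem _ hβh)
  have hψh : ((T ⊔ centralizerIn S T).subtype.comp (βh⁻¹).toMonoidHom).comp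
      (φ'.codRestrict (T ⊔ centralizerIn S T) hφ'val) ∈ F.Hom (P ⊔ T) :=
    F.comp_mem hφ' hβhinv hφ'val
  refine ⟨α₀, hα₀, (Y.subtype.comp (α₀⁻¹).toMonoidHom).comp (φ.codRestrict Y hφY), ?_, hψY, ?_⟩
  · refine ⟨hψF, hP.trans hYC, fun x => hYC (hψY x), _, hψh, ?_, ?_⟩
    · intro x
      show ((βh⁻¹ ⟨φ' (Subgroup.inclusion le_sup_left x), hφ'val _⟩ : ↥(T ⊔ centralizerIn S T)) : Ω) =
        ((α₀⁻¹ ⟨φ x, hφY x⟩ : Y) : Ω)
      have e : (⟨φ' (Subgroup.inclusion le_sup_left x), hφ'val _⟩ : ↥(T ⊔ centralizerIn S T)) =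
          Subgroup.inclusion hYTC ⟨φ x, hφY x⟩ := Subtype.ext (hφ'P x)
      rw [e, hβhinvY]
    · intro t
      show ((βh⁻¹ ⟨φ' (Subgroup.inclusion le_sup_right t), hφ'val _⟩ : ↥(T ⊔ centralizerIn S T)) : Ω) =
        (t : Ω)
      have e : (⟨φ' (Subgroup.inclusion le_sup_right t), hφ'val _⟩ : ↥(T ⊔ centralizerIn S T)) =
          βh (Subgroup.inclusion le_sup_left t) := by
        apply Subtype.ext
        rw [hβhT t, hβv t]
        rfl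
      rw [e]
      simp
  · intro x
    show φ x = ((α₀ ⟨((α₀⁻¹ ⟨φ x, hφY x⟩ : Y) : Ω), _⟩ : Y) : Ω)
    have : (⟨((α₀⁻¹ ⟨φ x, hφY x⟩ : Y) : Ω), (α₀⁻¹ ⟨φ x, hφY x⟩ : Y).2⟩ : Y) = α₀⁻¹ ⟨φ x, hφY x⟩ := rfl
    rw [this]
    simp

end Cfsg.Agent.CFE
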