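import Mathlib
import Cfsg.Agent.Lib.CFE.CFEExtT
import Cfsg.Agent.Lib.CFE.CFEFrat27

/-!
# S5155 piece CFE-CMAP: every `F`-map on `P ≤ Y` is (an element of `Aut_F(Y)`) ∘ (a map of `C_F(T)`)

RECIPE (MEDIUM-LONG).  `hφY x : φ x ∈ Y := h.map_mem_Y hPY hφ x`; `P ≤ centralizerIn S T` by `h.leY`.
1. `exists_ext_T p h.pS F h.sat h.scT (hPY.trans h.leY) φ hφ (fun x => h.leY (hφY x))` gives
   `ψ ∈ F.Hom (P ⊔ T)` extending `φ`; `ψ` maps `T` into `T` (`h.scT.2 T le_rfl _ (restrict_mem ..)`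
   or `h.scT.2 (P ⊔ T ⊓ ..)`; simplest: `h.scT.2 T le_rfl (ψ.comp (inclusion le_sup_right))
   (restrict_mem F le_sup_right hψ) t`).
2. `Cfsg.Agent.Helper3.Bcglo...exists_restrict_aut` (file `Lib/Helper3/BcgloX1.lean`, applied with
   `P := T`, `D := P ⊔ T`) gives `β ∈ F.autGroup T` with `ψ (incl t) = β t`.
3. `Helper16.PPowNormal.exists_aut_ext p h.pS F h.sat h.scT β hβ` gives
   `βh ∈ F.autGroup (T ⊔ centralizerIn S T)` extending `β`.  Put `Q := T ⊔ centralizerIn S T`.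
4. `βh` and `βh⁻¹` map `Y` into `Y` (`Helper25.aut_mem_of_stronglyClosed F h.scY hQS`), so
   (`exists_restrict_aut` of BcgloX1 again, with `P := Y`, `D := Q`, `φ := Q.subtype ∘ βh`
   which is in `F.Hom Q` by `mem_autGroup_iff`) there is `α ∈ F.autGroup Y` with
   `βh (incl y) = α y`.
5. `φ₁ : P →* Ω := Y.subtype ∘ α⁻¹ ∘ (φ codRestrict Y)`; `φ₁ ∈ F.Hom P` (`F.comp_mem`, with
   `Y.subtype ∘ α⁻¹ ∈ F.Hom Y` from `inv_mem hα` and `mem_autGroup_iff`); `φ x = α ⟨φ₁ x, _⟩`.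
6. `φ₁ ∈ C.Hom P`: `rw [h.mem_C_iff]`; the four conjuncts of `centralizerHom`: `φ₁ ∈ F.Hom P`;
   `P ≤ centralizerIn S T`; values in `Y ≤ centralizerIn S T`; extension
   `ψ' := (Q.subtype ∘ βh⁻¹) ∘ ψ ∈ F.Hom (P ⊔ T)` (`F.comp_mem`; `ψ z ∈ Q` by sup-induction:
   `ψ` maps `P` into `Y ≤ centralizerIn S T ≤ Q` and `T` into `T ≤ Q`), `ψ'` agrees with `φ₁` on `P`
   (as `βh⁻¹ = α⁻¹` on `Y`) and `ψ' t = βh⁻¹ (β t) = t` on `T`.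
Aux names: prefix `cfecmap_`.
-/

set_option autoImplicit false

namespace Cfsg.Agent.Helper9.CFE

open Cfsg Cfsg.FusionSystem Cfsg.Agent.Helper25 Cfsg.Agent.Helper26

variable {Ω : Type*} [Group Ω] {S : Subgroup Ω}

theorem exists_aut_cmap [Finite S] {p : ℕ} [Fact p.Prime] {F : FusionSystem S} {T Y : Subgroup Ω}
    {C : FusionSystem (centralizerIn S T)} (h : Setup p F T Y C) {P : Subgroup Ω} (hPY : P ≤ Y)
    (φ : P →* Ω) (hφ : φ ∈ F.Hom P) :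
    ∃ α ∈ F.autGroup Y, ∃ φ₁ ∈ C.Hom P, ∀ (x : P) (hx : φ₁ x ∈ Y),
      φ x = ((α ⟨φ₁ x, hx⟩ : Y) : Ω) := by
  obtain ⟨α₀, hα₀, ψ, hψC, hψY, hφψ⟩ :=
    Cfsg.Agent.CFE.cfefrat27_main p h.pS F h.sat h.scT h.scY h.leY hPY hφ
  exact ⟨α₀, hα₀, ψ, (h.mem_C_iff ψ).mpr hψC, fun x _ => hφψ x⟩

end Cfsg.Agent.Helper9.CFE
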