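import Mathlib
import Cfsg.Agent.Lib.CFE.CFEDefs
import Cfsg.Agent.Lib.CSE.CSEBGrp

/-!
# S5155: small facts for the assembly (helper9)
-/

set_option autoImplicit false

namespace Cfsg.Agent.Helper9.CFE

open Cfsg Cfsg.FusionSystem Cfsg.Agent.Helper25 Cfsg.Agent.Helper26

variable {Ω : Type*} [Group Ω] {S : Subgroup Ω}

/-- the hyperfocal subgroup lies in the focal subgroup -/
theorem cfe_hyperfocal_le_focal (F : FusionSystem S) (p : ℕ) :
    F.hyperfocalSubgroup p ≤ F.focalSubgroup := by
  unfold FusionSystem.hyperfocalSubgroup FusionSystem.focalSubgroup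
  rw [Subgroup.closure_le]
  rintro _ ⟨P, α, x, hPS, -, rfl⟩
  have hα := (mem_autGroup_iff F hPS (α : MulAut P)).1 α.2
  exact Subgroup.subset_closure ⟨P, _, x, hα, rfl⟩

/-- a strongly closed subgroup is normal in any intermediate subgroup -/
theorem cfe_normal_of_stronglyClosed {F : FusionSystem S} {Y K : Subgroup Ω}
    (hY : F.StronglyClosed Y) (hKS : K ≤ S) : (Y.subgroupOf K).Normal := by
  constructor
  intro n hn g
  rw [Subgroup.mem_subgroupOf] at hn ⊢
  exact Cfsg.Agent.Helper3.CSE.normal_of_stronglyClosed hY (g : Ω) (hKS g.2) (n : Ω) hn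

end Cfsg.Agent.Helper9.CFE
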