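import Mathlib
import Cfsg.Prelude.Def_FusionSystem
import Cfsg.Agent.Lib.CFE.CFEFrat27

/-!
# S5155 (design helper9), step (d): the Frattini clause of `D₀.IsInvariantIn F` (helper27)

`C = C_F(T)`, `D₀` over `Y ≤ C_S(T)` invariant in `C`, `Y` strongly closed in `F`: every `φ ∈ Hom_F(P, Y)`, `P ≤ Y`,
is `α ∘ φ₀` with `α ∈ Aut_F(Y)`, `φ₀ ∈ D₀`.  (`cfefrat27_main` + the Frattini clause of `D₀` in `C`.)
-/

set_option autoImplicit false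

namespace Cfsg.Agent.CFE

open Cfsg Cfsg.FusionSystem Cfsg.Agent.Helper25

variable {Ω : Type*} [Group Ω] {S : Subgroup Ω}

theorem cfefrat27_frattini_D0 [Finite S] (p : ℕ) [Fact p.Prime] (hS : IsPGroup p S)
    (F : FusionSystem S) (hF : F.IsSaturated p) {T : Subgroup Ω} (hT : F.StronglyClosed T)
    (C : FusionSystem (centralizerIn S T)) (hC : F.IsCentralizerSystem T C) {Y : Subgroup Ω}
    (hYK : Y ≤ centralizerIn S T) (hY : F.StronglyClosed Y) (D₀ : FusionSystem Y)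
    (hD₀ : D₀.IsInvariantIn C) :
    ∀ (P : Subgroup Ω), P ≤ Y → ∀ (φ : P →* Ω), φ ∈ F.Hom P →
      ∃ α ∈ F.autGroup Y, ∃ φ₀ ∈ D₀.Hom P, ∀ (x : P) (hx : φ₀ x ∈ Y),
        φ x = ((α ⟨φ₀ x, hx⟩ : Y) : Ω) := by
  intro P hP φ hφ
  obtain ⟨α₀, hα₀, ψ, hψC, hψY, hφψ⟩ := cfefrat27_main p hS F hF hT hY hYK hP hφ
  have hψC' : ψ ∈ C.Hom P := by rw [hC P]; exact hψC
  obtain ⟨γ, hγ, φ₀, hφ₀, hψφ₀⟩ := hD₀.2.2.2 P hP ψ hψC'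
  -- `γ ∈ Aut_C(Y) ≤ Aut_F(Y)`
  have hγF : γ ∈ F.autGroup Y := by
    rw [mem_autGroup_iff F hY.1]
    have h1 : Y.subtype.comp γ.toMonoidHom ∈ C.Hom Y := (mem_autGroup_iff C hYK γ).mp hγ
    rw [hC Y] at h1
    exact h1.1
  refine ⟨α₀ * γ, Subgroup.mul_mem _ hα₀ hγF, φ₀, hφ₀, fun x hx => ?_⟩
  have h2 := hψφ₀ x hx
  rw [hφψ x]
  show ((α₀ ⟨ψ x, hψY x⟩ : Y) : Ω) = ((α₀ (γ ⟨φ₀ x, hx⟩) : Y) : Ω)
  congr 2
  exact Subtype.ext h2
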