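import Mathlib
import Cfsg.Agent.Lib.CFE.CFECMap
import Cfsg.Agent.Lib.CFE.CFEFrat27b

/-!
# S5155 piece CFE-FRAT: the Frattini condition for `D₀` in `F`

RECIPE (SHORT-MEDIUM).  `exists_aut_cmap h hPY φ hφ` gives `α₀ ∈ F.autGroup Y`, `φ₁ ∈ C.Hom P` with
`φ x = α₀ ⟨φ₁ x, _⟩`.  The Frattini clause of `hD : D₀.IsInvariantIn C` (`hD.2.2.2 P hPY φ₁ hφ₁`)
gives `γ ∈ C.autGroup Y`, `φ₀ ∈ D₀.Hom P` with `φ₁ x = γ ⟨φ₀ x, _⟩`.  `γ ∈ F.autGroup Y`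
(`mem_autGroup_iff` for `C` (needs `Y ≤ centralizerIn S T`, `h.leY`) and for `F` (`h.leS_Y`),
plus `h.C_sub`; or `Helper3.CSE.autGroup_le_of_subsystem`).  Take `α := α₀ * γ`
(`MulAut.mul_apply`); values: `φ₀ x ∈ Y` is the hypothesis `hx`, `φ₁ x ∈ Y` by
`h.map_mem_Y hPY (h.C_sub P hφ₁) x`.
Aux names: prefix `cfefrat_`.
-/

set_option autoImplicit false

namespace Cfsg.Agent.Helper9.CFE

open Cfsg Cfsg.FusionSystem Cfsg.Agent.Helper25 Cfsg.Agent.Helper26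

variable {Ω : Type*} [Group Ω] {S : Subgroup Ω}

theorem frattini [Finite S] {p : ℕ} [Fact p.Prime] {F : FusionSystem S} {T Y : Subgroup Ω}
    {C : FusionSystem (centralizerIn S T)} (h : Setup p F T Y C) (D₀ : FusionSystem Y)
    (hD : D₀.IsInvariantIn C) {P : Subgroup Ω} (hPY : P ≤ Y) (φ : P →* Ω) (hφ : φ ∈ F.Hom P) :
    ∃ α ∈ F.autGroup Y, ∃ φ₀ ∈ D₀.Hom P, ∀ (x : P) (hx : φ₀ x ∈ Y),
      φ x = ((α ⟨φ₀ x, hx⟩ : Y) : Ω) :=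
  Cfsg.Agent.CFE.cfefrat27_frattini_D0 p h.pS F h.sat h.scT C h.cen h.leY h.scY D₀ hD P hPY φ hφ

end Cfsg.Agent.Helper9.CFE
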