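import Mathlib
import Cfsg.Agent.Lib.CFE.CFEFrat
import Cfsg.Agent.Lib.CFE.CFEAutInv

/-!
# S5155: the `p`-power-index subsystem `D₀` of `C_F(T)` over `Y` is weakly normal in `F`
(assembly of CFE-AUTINV and CFE-FRAT; helper9)
-/

set_option autoImplicit false

namespace Cfsg.Agent.Helper9.CFE

open Cfsg Cfsg.FusionSystem Cfsg.Agent.Helper25 Cfsg.Agent.Helper26

variable {Ω : Type*} [Group Ω] {S : Subgroup Ω}

theorem weaklyNormal [Finite S] {p : ℕ} [Fact p.Prime] {F : FusionSystem S}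
    {T Y : Subgroup Ω} {C : FusionSystem (centralizerIn S T)} (h : Setup p F T Y C)
    (D₀ : FusionSystem Y) (hDs : D₀.IsSaturated p) (hDi : D₀.HasPPowerIndexIn C p)
    (hDinv : D₀.IsInvariantIn C) : D₀.IsWeaklyNormalIn F p := by
  have hAI : AutInv F D₀ := autInv h D₀ hDs hDi
  refine ⟨hDs, h.sat, ?_, h.scY, ?_, ?_⟩
  · intro P φ hφ
    exact h.C_sub P (hDi.1 P hφ)
  · intro P hPT φ hφ α hα
    obtain ⟨χ, hχ, hχv⟩ := hAI hα hPT hφ
    exact ⟨χ, hχ, fun x _ _ => hχv x⟩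
  · intro P hPT φ hφ
    exact frattini h D₀ hDinv hPT φ hφ

end Cfsg.Agent.Helper9.CFE
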